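import Cfsg.Agent.R2.T1.Pat2.Diag2
import Cfsg.Agent.R2.T1.Pat2.ChkA
import Cfsg.Agent.R2.T1.Pat2.ChkB
import Cfsg.Agent.R2.T1.Pat2.Grp

/-!
# T1, PAT2 (helper26): commuting elements of order 3 of types `(20, 49)`, `(32, 67)` in characteristic 2

* `pair49`, `pair67`.
-/

set_option autoImplicit false
set_option maxRecDepth 100000

namespace Cfsg.Agent.R2.T1.Pat2

open Cfsg Cfsg.Lie Module
open Cfsg.Agent.ChevalleyStructure Cfsg.Agent.ChevalleyStructure.Elts Cfsg.Agent.ChevalleyStructure.RootVec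
  Cfsg.Agent.ChevalleyStructure.RootVecTab Cfsg.Agent.ChevalleyStructure.CoxeterGeomTypes
open Cfsg.Agent.H943.E7V.Block (D1 rho)
open Cfsg.Agent.H944.E7Two
open Cfsg.Agent.H952.F4 (ev es)
open Cfsg.Agent.R2.T1
open Cfsg.Agent.H944.E6T (ev_conj)

universe u

section
variable {K : Type u} [Field K]

theorem zpow5 {μ : Kˣ} (hμ : IsPrimitiveRoot μ 5) {ω : Kˣ} (hω : IsPrimitiveRoot ω 3) {e : ℤ} (he : -2 ≤ e ∧ e ≤ 2)
    {k : ℕ} {x : K} (h : ((μ ^ e : Kˣ) : K) * x = (μ : K) ^ k * x) :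
    ((ω ^ e : Kˣ) : K) * x = (ω : K) ^ ((k + 2) % 5 + 1) * x := by
  by_cases hx : x = 0
  · rw [hx, mul_zero, mul_zero]
  · have h1 : μ ^ e = μ ^ (k : ℤ) := Units.ext (by
      rw [mul_right_cancel₀ hx h, zpow_natCast, Units.val_pow_eq_pow_val])
    have h2 : μ ^ (e - k) = 1 := by rw [zpow_sub, h1, mul_inv_cancel]
    rw [hμ.zpow_eq_one_iff_dvd] at h2
    have h3 : ω ^ (e - (((k + 2) % 5 + 1 : ℕ) : ℤ)) = 1 := by
      rw [hω.zpow_eq_one_iff_dvd]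
      push_cast
      omega
    rw [zpow_sub, mul_inv_eq_one, zpow_natCast] at h3
    rw [h3, Units.val_pow_eq_pow_val]

variable {l : Fin chevE7.rank → ℤ} {j0 : ℕ} {d c0 χ₁ χ₂ : ℤ}

theorem shiftV (hT : TL l j0 d c0 χ₁ χ₂) (hw : ∀ k < 240, rt chevE8 k 7 = 1 → -2 ≤ c0 + d * rt chevE8 k j0 ∧
    c0 + d * rt chevE8 k j0 ≤ 2) {μ ω : Kˣ} (hμ : IsPrimitiveRoot μ 5) (hω : IsPrimitiveRoot ω 3) {k : ℕ}
    {v : D1 → K} (h : V K (Phi K (R2.T1.lam l μ)) v = (μ : K) ^ k • v) :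
    V K (Phi K (R2.T1.lam l ω)) v = (ω : K) ^ ((k + 2) % 5 + 1) • v := by
  funext s
  have h1 := congrFun h s
  rw [V_Phi_apply, hT.wt_lam, Pi.smul_apply, smul_eq_mul] at h1
  rw [V_Phi_apply, hT.wt_lam, Pi.smul_apply, smul_eq_mul]
  exact zpow5 hμ hω (hw _ (nn_lt s) (rt_nn s)) h1

theorem shiftL (hT : TL l j0 d c0 χ₁ χ₂) (hr : ∀ r < 126, -2 ≤ d * rt chevE7 r j0 ∧ d * rt chevE7 r j0 ≤ 2)
    {μ ω : Kˣ} (hμ : IsPrimitiveRoot μ 5) (hω : IsPrimitiveRoot ω 3) {k : ℕ}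
    {v : chevE7.Idx → K} (h : L K (Phi K (R2.T1.lam l μ)) v = (μ : K) ^ k • v) :
    L K (Phi K (R2.T1.lam l ω)) v = (ω : K) ^ ((k + 2) % 5 + 1) • v := by
  funext s
  have h1 := congrFun h s
  rw [L_Phi_apply, Pi.smul_apply, smul_eq_mul] at h1
  rw [L_Phi_apply, Pi.smul_apply, smul_eq_mul]
  rcases s with i | r
  · have h3 : ((μ ^ (0 : ℤ) : Kˣ) : K) * v (Sum.inl i) = (μ : K) ^ k * v (Sum.inl i) := by
      rw [zpow_zero]
      exact h1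
    have h4 := zpow5 hμ hω (by norm_num) h3
    rw [zpow_zero] at h4
    exact h4
  · have h5 : ∀ a : Fin chevE7.rank → Kˣ, dL a (Sum.inr r) = ((rtv r a : Kˣ) : K) := fun _ => rfl
    rw [h5, hT.rtv_lam r.2] at h1 ⊢
    exact zpow5 hμ hω (hr _ r.2) h1

theorem eig_pow {M : Type*} [AddCommGroup M] [Module K M] (ρ : Representation K (Gh K) M) {z : Gh K} {x : K} {v : M}
    (h : ρ z v = x • v) (j : ℕ) : ρ (z ^ j) v = x ^ j • v := by
  induction j with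
  | zero => rw [pow_zero, pow_zero, map_one, one_smul]; rfl
  | succ j ih => rw [pow_succ, map_mul, Module.End.mul_apply, h, map_smul, ih, smul_smul, pow_succ']

open Classical in
theorem sumη {η : K} (hη : IsPrimitiveRoot η 15) (f : ℕ → ℕ) (m : ℕ → ℕ) (m0 : ℕ) :
    (∑ k ∈ Finset.range 15, if η ^ m k = η ^ m0 then f k else 0) =
      ∑ k ∈ Finset.range 15, if (m k % 15 == m0 % 15) = true then f k else 0 := by
  refine Finset.sum_congr rfl fun k _ => ?_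
  have h1 : η ^ m k = η ^ m0 ↔ (m k % 15 == m0 % 15) = true := by
    rw [beq_iff_eq]
    constructor
    · intro h2
      rw [pow_mod_eq hη, pow_mod_eq hη m0] at h2
      exact hη.pow_inj (Nat.mod_lt _ (by norm_num)) (Nat.mod_lt _ (by norm_num)) h2
    · intro h2
      rw [pow_mod_eq hη, pow_mod_eq hη m0, h2]
  simp only [h1]

open Classical in
/-- the grouping property -/
def Grp {M : Type*} [AddCommGroup M] [Module K M] (ρ : Representation K (Gh K) M) (η : K) (z : Gh K) : Prop :=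
  ∀ (t : Gh K) (τ : ℕ → K), (∀ k < 15, ∀ v, ρ z v = η ^ k • v → ρ t v = τ k • v) → ∀ θ : K,
    ev (ρ t) θ = ∑ k ∈ Finset.range 15, if τ k = θ then ev (ρ z) (η ^ k) else 0

open Classical in
theorem Grp.sum {M : Type*} [AddCommGroup M] [Module K M] {ρ : Representation K (Gh K) M} {η : K} {z : Gh K}
    (h : Grp ρ η z) (hη : IsPrimitiveRoot η 15) {f : ℕ → ℕ} (hf : ∀ k < 15, ev (ρ z) (η ^ k) = f k) {t : Gh K}
    (m : ℕ → ℕ) (ht : ∀ k < 15, ∀ v, ρ z v = η ^ k • v → ρ t v = η ^ m k • v) (m0 : ℕ) :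
    ev (ρ t) (η ^ m0) = ∑ k ∈ Finset.range 15, if (m k % 15 == m0 % 15) = true then f k else 0 := by
  rw [h t (fun k => η ^ m k) ht, ← sumη hη f m m0]
  refine Finset.sum_congr rfl fun k hk => ?_
  rw [hf k (Finset.mem_range.1 hk)]

/-- **the multiplicities of `b`, `A b`, `A b⁻¹`, `Λ`** -/
theorem Grp.sums {M : Type*} [AddCommGroup M] [Module K M] {ρ : Representation K (Gh K) M} {η : K} {z b A Λ : Gh K}
    (h : Grp ρ η z) (hη : IsPrimitiveRoot η 15) {f : ℕ → ℕ} (hf : ∀ k < 15, ev (ρ z) (η ^ k) = f k)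
    (hb : z ^ 10 = b) (hΛ : z ^ 6 = Λ) (hb3 : b ^ 3 = 1)
    (hs : ∀ k v, ρ Λ v = (η ^ 6) ^ k • v → ρ A v = (η ^ 10) ^ ((k + 2) % 5 + 1) • v) :
    (ev (ρ b) 1 = f 0 + (f 3 + (f 6 + (f 9 + f 12))) ∧
    ev (ρ (A * b)) 1 = f 0 + (f 4 + (f 7 + (f 8 + f 11))) ∧
    ev (ρ (A * b⁻¹)) 1 = f 0 + (f 1 + (f 2 + (f 13 + f 14)))) ∧
    ev (ρ Λ) ((η ^ 6) ^ 0) = f 0 + (f 5 + f 10) ∧ ev (ρ Λ) ((η ^ 6) ^ 1) = f 1 + (f 6 + f 11) ∧
    ev (ρ Λ) ((η ^ 6) ^ 2) = f 2 + (f 7 + f 12) := by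
  have e1 : ∀ k < 15, ∀ v, ρ z v = η ^ k • v → ρ b v = η ^ (10 * k) • v := by
    intro k _ v hv
    have h1 := eig_pow ρ hv 10
    rw [hb, ← pow_mul, mul_comm k] at h1
    exact h1
  have e2 : ∀ k < 15, ∀ v, ρ z v = η ^ k • v → ρ Λ v = η ^ (6 * k) • v := by
    intro k _ v hv
    have h1 := eig_pow ρ hv 6
    rw [hΛ, ← pow_mul, mul_comm k] at h1
    exact h1
  have e3 : ∀ k < 15, ∀ v, ρ z v = η ^ k • v → ρ A v = η ^ (10 * ((k + 2) % 5 + 1)) • v := by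
    intro k hk v hv
    have h1 := hs k v (by rw [← pow_mul]; exact e2 k hk v hv)
    rw [← pow_mul] at h1
    exact h1
  have e4 : ∀ k < 15, ∀ v, ρ z v = η ^ k • v → ρ (A * b) v = η ^ (10 * k + 10 * ((k + 2) % 5 + 1)) • v := by
    intro k hk v hv
    rw [map_mul, Module.End.mul_apply, e1 k hk v hv, map_smul, e3 k hk v hv, smul_smul, ← pow_add]
  have hbi : b⁻¹ = b ^ 2 := by
    rw [inv_eq_iff_mul_eq_one, ← pow_succ', hb3]
  have e5 : ∀ k < 15, ∀ v, ρ z v = η ^ k • v → ρ (A * b⁻¹) v = η ^ (20 * k + 10 * ((k + 2) % 5 + 1)) • v := by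
    intro k hk v hv
    rw [hbi, map_mul, Module.End.mul_apply, eig_pow ρ (e1 k hk v hv) 2, map_smul, e3 k hk v hv, smul_smul, ← pow_mul,
      ← pow_add]
    congr 2
    ring
  have s1 := h.sum hη hf _ e1 0
  have s4 := h.sum hη hf _ e4 0
  have s5 := h.sum hη hf _ e5 0
  have s20 := h.sum hη hf _ e2 0
  have s21 := h.sum hη hf _ e2 6
  have s22 := h.sum hη hf _ e2 12
  rw [pow_zero] at s1 s4 s5 s20
  simp only [Finset.sum_range_succ, Finset.sum_range_zero] at s1 s4 s5 s20 s21 s22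
  norm_num at s1 s4 s5 s20 s21 s22
  refine ⟨⟨?_, ?_, ?_⟩, ?_, ?_, ?_⟩
  · rw [s1]; ring
  · rw [map_mul, s4]; ring
  · rw [map_mul, s5]; ring
  · rw [pow_zero, s20]; ring
  · rw [pow_one, s21]; ring
  · rw [← pow_mul, s22]; ring

variable {l : Fin chevE7.rank → ℤ} {j0 : ℕ} {d c0 χ₁ χ₂ : ℤ}

/-- **the pair, over `K`** -/
theorem pairK (h2 : (2 : K) = 0) (hT : TL l j0 d c0 χ₁ χ₂) (hd : d ≠ 0)
    (hw : ∀ k < 240, rt chevE8 k 7 = 1 → -2 ≤ c0 + d * rt chevE8 k j0 ∧ c0 + d * rt chevE8 k j0 ≤ 2)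
    (hr : ∀ r < 126, -2 ≤ d * rt chevE7 r j0 ∧ d * rt chevE7 r j0 ≤ 2)
    {v0 v1 v2 l0 l1 l2 : ℕ} {P : ℕ → ℕ → ℕ → ℕ → ℕ → ℕ → Bool}
    (hchk : chkQ 15 (QP v0 v1 v2 l0 l1 l2 P) = true)
    (hev : ∀ μ : Kˣ, IsPrimitiveRoot μ 5 →
      (ev (V K (Phi K (R2.T1.lam l μ))) ((μ : K) ^ 0) = v0 ∧ ev (V K (Phi K (R2.T1.lam l μ))) ((μ : K) ^ 1) = v1 ∧
        ev (V K (Phi K (R2.T1.lam l μ))) ((μ : K) ^ 2) = v2) ∧
      ev (L K (Phi K (R2.T1.lam l μ))) ((μ : K) ^ 0) = l0 ∧ ev (L K (Phi K (R2.T1.lam l μ))) ((μ : K) ^ 1) = l1 ∧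
        ev (L K (Phi K (R2.T1.lam l μ))) ((μ : K) ^ 2) = l2)
    (hfr : ∀ z : Gh K, z ^ 15 = 1 → ∃ (g : Gh K) (c : Fin chevE7.rank → Kˣ), Phi K c = g * z * g⁻¹ ∧ c ^ 15 = 1)
    {η : Kˣ} (hη : IsPrimitiveRoot η 15) {b : Gh K} (hb3 : b ^ 3 = 1)
    (hb : b * Phi K (R2.T1.lam l (η ^ 10)) = Phi K (R2.T1.lam l (η ^ 10)) * b) :
    P (ev (V K b) 1) (ev (L K b) 1) (ev (V K (Phi K (R2.T1.lam l (η ^ 10)) * b)) 1)
      (ev (L K (Phi K (R2.T1.lam l (η ^ 10)) * b)) 1) (ev (V K (Phi K (R2.T1.lam l (η ^ 10)) * b⁻¹)) 1)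
      (ev (L K (Phi K (R2.T1.lam l (η ^ 10)) * b⁻¹)) 1) = true := by
  have hω : IsPrimitiveRoot (η ^ 10) 3 := by
    have h1 := hη.pow_of_dvd (p := 5) (by norm_num) (by norm_num)
    have h3 : IsPrimitiveRoot (η ^ 5) 3 := h1
    have h4 := h3.pow_of_coprime 2 (by norm_num)
    rw [← pow_mul] at h4
    exact h4
  have hμ : IsPrimitiveRoot (η ^ 6) 5 := by
    have h1 := hη.pow_of_dvd (p := 3) (by norm_num) (by norm_num)
    have h3 : IsPrimitiveRoot (η ^ 3) 5 := h1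
    have h4 := h3.pow_of_coprime 2 (by norm_num)
    rw [← pow_mul] at h4
    exact h4
  have hc := comm2 h2 hT hd hω hb (η ^ 6)
  set A := Phi K (R2.T1.lam l (η ^ 10)) with hA
  set Λ := Phi K (R2.T1.lam l (η ^ 6)) with hΛ
  have hΛ5 : Λ ^ 5 = 1 := by
    rw [hΛ, ← map_pow, R2.T1.lam_pow l hμ.pow_eq_one, map_one]
  have hcom : Commute b Λ := hc
  have hz15 : (b * Λ) ^ 15 = 1 := by
    rw [hcom.mul_pow]
    have e1 : b ^ 15 = (b ^ 3) ^ 5 := by rw [← pow_mul]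
    have e2 : Λ ^ 15 = (Λ ^ 5) ^ 3 := by rw [← pow_mul]
    rw [e1, e2, hb3, hΛ5, one_pow, one_pow, mul_one]
  have hz10 : (b * Λ) ^ 10 = b := by
    rw [hcom.mul_pow]
    have e1 : b ^ 10 = (b ^ 3) ^ 3 * b := by rw [← pow_mul, ← pow_succ]
    have e2 : Λ ^ 10 = (Λ ^ 5) ^ 2 := by rw [← pow_mul]
    rw [e1, e2, hb3, hΛ5, one_pow, one_pow, mul_one, one_mul]
  have hz6 : (b * Λ) ^ 6 = Λ := by
    rw [hcom.mul_pow]
    have e1 : b ^ 6 = (b ^ 3) ^ 2 := by rw [← pow_mul]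
    have e2 : Λ ^ 6 = Λ ^ 5 * Λ := by rw [← pow_succ]
    rw [e1, e2, hb3, hΛ5, one_pow, one_mul, one_mul]
  have hfz := hfr _ hz15
  have hηK : IsPrimitiveRoot (η : K) 15 := IsPrimitiveRoot.coe_units_iff.2 hη
  obtain ⟨f, g, hQ, hfg⟩ := exists_patQ hchk (by norm_num) hη hfz
  have hf : ∀ k < 15, ev (V K (b * Λ)) ((η : K) ^ k) = f k := fun k hk => (hfg k hk).1
  have hg : ∀ k < 15, ev (L K (b * Λ)) ((η : K) ^ k) = g k := fun k hk => (hfg k hk).2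
  have e10 : ((η ^ 10 : Kˣ) : K) = (η : K) ^ 10 := Units.val_pow_eq_pow_val _ _
  have e6 : ((η ^ 6 : Kˣ) : K) = (η : K) ^ 6 := Units.val_pow_eq_pow_val _ _
  have gV : Grp (V K) (η : K) (b * Λ) := fun t τ h θ => by
    convert ev_grp_V (by norm_num) hηK hfz τ h θ
  have gL : Grp (L K) (η : K) (b * Λ) := fun t τ h θ => by
    convert ev_grp_L (by norm_num) hηK hfz τ h θ
  obtain ⟨⟨a1, a2, a3⟩, a4, a5, a6⟩ := gV.sums (A := A) hηK hf hz10 hz6 hb3 (fun k v hv => by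
    have := shiftV hT hw hμ hω (k := k) (v := v) (by rw [e6]; exact hv)
    rw [e10] at this
    exact this)
  obtain ⟨⟨b1, b2, b3⟩, b4, b5, b6⟩ := gL.sums (A := A) hηK hg hz10 hz6 hb3 (fun k v hv => by
    have := shiftL hT hr hμ hω (k := k) (v := v) (by rw [e6]; exact hv)
    rw [e10] at this
    exact this)
  obtain ⟨⟨c1, c2, c3⟩, c4, c5, c6⟩ := hev _ hμ
  rw [e6] at c1 c2 c3 c4 c5 c6
  rw [c1] at a4
  rw [c2] at a5
  rw [c3] at a6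
  rw [c4] at b4
  rw [c5] at b5
  rw [c6] at b6
  unfold QP at hQ
  rw [← a4, ← a5, ← a6, ← b4, ← b5, ← b6, ← a1, ← a2, ← a3, ← b1, ← b2, ← b3] at hQ
  simpa using hQ

/-- the multiplicities of `λ(μ)` -/
theorem lam_ev (hT : TL l j0 d c0 χ₁ χ₂) {y : List ℕ} (hy : y.length = 7) {t : ℕ}
    (h1 : ∀ j < 7, (5 : ℤ) ∣ (if j = j0 then d else 0) - (y.getD j 0 : ℕ)) (h2 : (5 : ℤ) ∣ c0 - (t : ℕ))
    {μ : Kˣ} (hμ : IsPrimitiveRoot μ 5) {k : ℕ} (hk : k < 5) :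
    ev (V K (Phi K (R2.T1.lam l μ))) ((μ : K) ^ k) = cV 5 y t k ∧
      ev (L K (Phi K (R2.T1.lam l μ))) ((μ : K) ^ k) = cL 5 y k := by
  have key : ∀ (a : ℤ) (b : ℕ), (5 : ℤ) ∣ a - (b : ℕ) → μ ^ a = μ ^ b := by
    intro a b h
    have h3 : μ ^ (a - (b : ℕ)) = 1 := (hμ.zpow_eq_one_iff_dvd _).2 (by exact_mod_cast h)
    rw [zpow_sub, mul_inv_eq_one, zpow_natCast] at h3
    exact h3
  have hs : ∀ j < 7, rtv (chevE7.simple j) (R2.T1.lam l μ) = μ ^ y.getD j 0 := by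
    intro j hj
    rw [R2.T1.rtv_lam, hT.simple j hj]
    exact key _ _ (h1 j hj)
  have ht : wt botv (R2.T1.lam l μ) = μ ^ t := by
    rw [R2.T1.wt_lam]
    have h3 : chW l (nn botv) = c0 := hT.bot
    rw [h3]
    exact key _ _ h2
  exact ⟨ev_V_core hy hs hμ ht hk, ev_L_core hy hs hμ hk⟩

end

section
variable {F : Type u} [Field F] [Finite F]

theorem charP_two (h2 : (2 : F) = 0) : CharP F 2 := by
  obtain ⟨p, hp⟩ := CharP.exists F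
  have hpp : p.Prime := CharP.char_is_prime F p
  have h1 : p ∣ 2 := (CharP.cast_eq_zero_iff F p 2).1 (by exact_mod_cast h2)
  rw [(Nat.prime_dvd_prime_iff_eq hpp Nat.prime_two).1 h1] at hp
  exact hp

variable {l : Fin chevE7.rank → ℤ} {j0 : ℕ} {d c0 χ₁ χ₂ : ℤ}

/-- **the pair, over `F`** -/
theorem pairF (h2 : (2 : F) = 0) (hT : TL l j0 d c0 χ₁ χ₂) (hd : d ≠ 0)
    (hw : ∀ k < 240, rt chevE8 k 7 = 1 → -2 ≤ c0 + d * rt chevE8 k j0 ∧ c0 + d * rt chevE8 k j0 ≤ 2)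
    (hr : ∀ r < 126, -2 ≤ d * rt chevE7 r j0 ∧ d * rt chevE7 r j0 ≤ 2)
    {v0 v1 v2 l0 l1 l2 : ℕ} {P : ℕ → ℕ → ℕ → ℕ → ℕ → ℕ → Bool}
    (hchk : chkQ 15 (QP v0 v1 v2 l0 l1 l2 P) = true) {y : List ℕ} (hy : y.length = 7) {t : ℕ}
    (h1 : ∀ j < 7, (5 : ℤ) ∣ (if j = j0 then d else 0) - (y.getD j 0 : ℕ)) (h2' : (5 : ℤ) ∣ c0 - (t : ℕ))
    (hc : (cV 5 y t 0 = v0 ∧ cV 5 y t 1 = v1 ∧ cV 5 y t 2 = v2) ∧ cL 5 y 0 = l0 ∧ cL 5 y 1 = l1 ∧ cL 5 y 2 = l2)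
    {a b : Gh F} (hex : ∀ ζ : (AlgebraicClosure F)ˣ, IsPrimitiveRoot ζ 3 →
      ∃ g, Phi (AlgebraicClosure F) (R2.T1.lam l ζ) = g * emb (algebraMap F (AlgebraicClosure F)) a * g⁻¹)
    (hb3 : b ^ 3 = 1) (hab : a * b = b * a) :
    P (ev (V F b) 1) (ev (L F b) 1) (ev (V F (a * b)) 1) (ev (L F (a * b)) 1) (ev (V F (a * b⁻¹)) 1)
      (ev (L F (a * b⁻¹)) 1) = true := by
  have : CharP F 2 := charP_two h2
  have hp2 : Fact (Nat.Prime 2) := ⟨Nat.prime_two⟩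
  have : CharP (AlgebraicClosure F) 2 :=
    charP_of_injective_algebraMap (algebraMap F (AlgebraicClosure F)).injective 2
  have h2K : (2 : AlgebraicClosure F) = 0 := CharTwo.two_eq_zero
  have h15 : ((15 : ℕ) : AlgebraicClosure F) ≠ 0 := by
    have : ((15 : ℕ) : AlgebraicClosure F) = 2 * 7 + 1 := by norm_num
    rw [this, h2K, zero_mul, zero_add]
    exact one_ne_zero
  have : NeZero ((15 : ℕ) : AlgebraicClosure F) := ⟨h15⟩
  have : NeZero 15 := ⟨by norm_num⟩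
  obtain ⟨η', hη'⟩ : ∃ η : AlgebraicClosure F, IsPrimitiveRoot η 15 :=
    HasEnoughRootsOfUnity.exists_primitiveRoot (AlgebraicClosure F) 15
  have hη0 : η' ≠ 0 := hη'.ne_zero (by norm_num)
  have hη : IsPrimitiveRoot (Units.mk0 η' hη0) 15 := IsPrimitiveRoot.coe_units_iff.1 hη'
  set η := Units.mk0 η' hη0 with hηdef
  have hω : IsPrimitiveRoot (η ^ 10) 3 := by
    have h1 := hη.pow_of_dvd (p := 5) (by norm_num) (by norm_num)
    have h3 : IsPrimitiveRoot (η ^ 5) 3 := h1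
    have h4 := h3.pow_of_coprime 2 (by norm_num)
    rw [← pow_mul] at h4
    exact h4
  obtain ⟨g, hg⟩ := hex _ hω
  set f := algebraMap F (AlgebraicClosure F) with hf
  have hcom : emb f a * emb f b = emb f b * emb f a := by rw [← map_mul, hab, map_mul]
  have h5 := pairK h2K hT hd hw hr hchk (fun μ hμ => by
    obtain ⟨⟨c1, c2, c3⟩, c4, c5, c6⟩ := hc
    have d0 := lam_ev hT hy h1 h2' hμ (k := 0) (by norm_num)
    have d1 := lam_ev hT hy h1 h2' hμ (k := 1) (by norm_num)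
    have d2 := lam_ev hT hy h1 h2' hμ (k := 2) (by norm_num)
    exact ⟨⟨by rw [d0.1, c1], by rw [d1.1, c2], by rw [d2.1, c3]⟩, by rw [d0.2, c4], by rw [d1.2, c5],
      by rw [d2.2, c6]⟩)
    (fun z hz => frameK 2 (Cfsg.Agent.H944.RootVals.hAlg_closure 2 F) (by norm_num) (by norm_num) hz) hη
    (b := g * emb f b * g⁻¹) (by rw [conj_pow, ← map_pow, hb3, map_one, mul_one, mul_inv_cancel]) (by
      rw [hg]
      have e1 : g * emb f b * g⁻¹ * (g * emb f a * g⁻¹) = g * (emb f b * emb f a) * g⁻¹ := by group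
      have e2 : g * emb f a * g⁻¹ * (g * emb f b * g⁻¹) = g * (emb f a * emb f b) * g⁻¹ := by group
      rw [e1, e2, hcom])
  have e1 : Phi (AlgebraicClosure F) (R2.T1.lam l (η ^ 10)) * (g * emb f b * g⁻¹) = g * emb f (a * b) * g⁻¹ := by
    rw [hg, map_mul]; group
  have e2 : Phi (AlgebraicClosure F) (R2.T1.lam l (η ^ 10)) * (g * emb f b * g⁻¹)⁻¹ =
      g * emb f (a * b⁻¹) * g⁻¹ := by
    rw [hg, map_mul, map_inv]; group
  rw [e1, e2, ev_conj, ev_conj, ev_conj, ev_conj, ev_conj, ev_conj, ev_V_one, ev_V_one, ev_V_one, ev_L_one, ev_L_one,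
    ev_L_one] at h5
  exact h5

theorem wb6 : ∀ k < 240, rt chevE8 k 7 = 1 → -2 ≤ -2 + 1 * rt chevE8 k 5 ∧ -2 + 1 * rt chevE8 k 5 ≤ 2 := by
  decide +kernel
theorem rb6 : ∀ r < 126, -2 ≤ 1 * rt chevE7 r 5 ∧ 1 * rt chevE7 r 5 ≤ 2 := by decide +kernel
theorem wb1 : ∀ k < 240, rt chevE8 k 7 = 1 → -2 ≤ -1 + 1 * rt chevE8 k 0 ∧ -1 + 1 * rt chevE8 k 0 ≤ 2 := by
  decide +kernel
theorem rb1 : ∀ r < 126, -2 ≤ 1 * rt chevE7 r 0 ∧ 1 * rt chevE7 r 0 ≤ 2 := by decide +kernel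

omit [Finite F] in
theorem three_ne (h2 : (2 : F) = 0) : (3 : F) ≠ 0 := by
  have h3 : (3 : F) = 2 + 1 := by norm_num
  rw [h3, h2, zero_add]
  exact one_ne_zero

/-- **pairs of type `(20, 49)`** -/
theorem pair49 (h2 : (2 : F) = 0) {a b : Gh F} (ha3 : a ^ 3 = 1) (hb3 : b ^ 3 = 1) (hab : a * b = b * a)
    (va : ev (V F a) 1 = 20) (la : ev (L F a) 1 = 49) (vb : ev (V F b) 1 = 20) (lb : ev (L F b) 1 = 49)
    (hv : ev (V F (a * b)) 1 = ev (V F (a * b⁻¹)) 1) (hl : ev (L F (a * b)) 1 = ev (L F (a * b⁻¹)) 1) :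
    ev (V F (a * b)) 1 = 14 ∨ ev (L F (a * b)) 1 = 67 := by
  have h5 := pairF h2 TL6 (by norm_num) wb6 rb6 chk49 (y := [0, 0, 0, 0, 0, 1, 0]) rfl (t := 3) (by decide)
    (by decide) (by decide +kernel) (exists_lam_F (three_ne h2) ha3 TL6 nf49 (fun Y hY => by
      simp only [List.mem_cons, List.not_mem_nil, or_false] at hY
      rcases hY with rfl | rfl
      · exact ⟨[], by decide +kernel⟩
      · exact ⟨[6, 5, 4, 3, 1, 2, 0, 3, 2, 4, 3, 1, 5, 4, 3, 2, 0, 6, 5, 4, 3, 1, 2, 3, 4, 5], by decide +kernel⟩)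
      va la) hb3 hab
  rw [vb, lb, ← hv, ← hl] at h5
  unfold P49 at h5
  simpa using h5

/-- **pairs of type `(32, 67)`** -/
theorem pair67 (h2 : (2 : F) = 0) {a b : Gh F} (ha3 : a ^ 3 = 1) (hb3 : b ^ 3 = 1) (hab : a * b = b * a)
    (va : ev (V F a) 1 = 32) (la : ev (L F a) 1 = 67) (vb : ev (V F b) 1 = 32) (lb : ev (L F b) 1 = 67)
    (hv : ev (V F (a * b)) 1 = ev (V F (a * b⁻¹)) 1) (hl : ev (L F (a * b)) 1 = ev (L F (a * b⁻¹)) 1) :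
    ev (V F (a * b)) 1 = 20 ∧ ev (L F (a * b)) 1 = 49 := by
  have h5 := pairF h2 TL1 (by norm_num) wb1 rb1 chk67 (y := [1, 0, 0, 0, 0, 0, 0]) rfl (t := 4) (by decide)
    (by decide) (by decide +kernel) (exists_lam_F (three_ne h2) ha3 TL1 nf32 (fun Y hY => by
      simp only [List.mem_cons, List.not_mem_nil, or_false] at hY
      rcases hY with rfl | rfl
      · exact ⟨[6, 5, 4, 3, 1, 2, 0, 3, 2, 4, 3, 1, 5, 4, 3, 2, 0], by decide +kernel⟩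
      · exact ⟨[], by decide +kernel⟩)
      va la) hb3 hab
  rw [vb, lb, ← hv, ← hl] at h5
  unfold P67 at h5
  simpa using h5

end

end Cfsg.Agent.R2.T1.Pat2
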