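import Cfsg.Agent.R2.T1.Odd.El
import Cfsg.Agent.R2.T1.Pat2.Pair
import Cfsg.Agent.R2.T1.Pat2.ChkC

/-!
# T1, PAT2 (helper26): elements of order 5, 7, 15 conjugate to their squares

* `five_ratL`, `seven_rat`, `fifteen_rat`; `three_pat`.
-/

set_option autoImplicit false
set_option maxRecDepth 100000

namespace Cfsg.Agent.R2.T1.Pat2

open Cfsg Cfsg.Lie Module
open Cfsg.Agent.H943.E7V.Block (D1 rho)
open Cfsg.Agent.H952.F4 (ev es)
open Cfsg.Agent.R2.T1.Odd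

universe u

section
variable {F : Type u} [Field F] [Finite F]

theorem five_ratL (h5 : (5 : F) ≠ 0) {x g : Gh F} (hx : x ^ 5 = 1) (hx1 : x ≠ 1) (hg : g * x * g⁻¹ = x ^ 2) :
    ev (V F x) 1 = 16 ∧ ev (L F x) 1 = 33 := by
  have h5' : ((5 : ℕ) : F) ≠ 0 := by exact_mod_cast h5
  obtain ⟨p, hpp, hp, hcop⟩ := exists_char h5'
  obtain ⟨ζ, hζ, P, hP, h1⟩ := pat chk5 (by norm_num) p hcop hx
  have e1 := ev_rat (V (AlgebraicClosure F)) (N := 5) (a := 2) (b := 3) (emb_pow_one (algebraMap F _) hx) hζ.pow_eq_one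
    (by norm_num) (by norm_num) (emb_rat _ hg) 1
  have h2 := (h1 1 (by norm_num)).1
  have h3 := (h1 3 (by norm_num)).1
  have h0 := (h1 0 (by norm_num)).1
  have h0' := (h1 0 (by norm_num)).2
  rw [pow_zero, ev_V_one] at h0
  rw [pow_zero, ev_L_one] at h0'
  rw [h2, one_mul, h3] at e1
  have key : ∀ P ∈ T5, P.1.getD 0 0 = 56 ∨ (P.1.getD 0 0 = 16 ∧ P.2.getD 0 0 = 33) ∨ P.1.getD 1 0 ≠ P.1.getD 3 0 := by
    decide
  rcases key P hP with h | h | h
  · exact absurd (eq_one_of_ev (h0.trans h)) hx1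
  · rw [h0, h0', h.1, h.2]
    exact ⟨rfl, rfl⟩
  · exact absurd e1 h

/-- **elements of order 7 conjugate to their squares** -/
theorem seven_rat (h7 : (7 : F) ≠ 0) {x g : Gh F} (hx : x ^ 7 = 1) (hx1 : x ≠ 1) (hg : g * x * g⁻¹ = x ^ 2) :
    ev (V F x) 1 = 2 ∨ ev (V F x) 1 = 8 ∨ ev (V F x) 1 = 20 := by
  have h7' : ((7 : ℕ) : F) ≠ 0 := by exact_mod_cast h7
  obtain ⟨p, hpp, hp, hcop⟩ := exists_char h7'
  obtain ⟨ζ, hζ, P, hP, h1⟩ := pat chk7 (by norm_num) p hcop hx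
  have hm : ∀ j, ζ ^ j = ζ ^ (j % 7) := fun j => pow_mod_eq hζ j
  have eV := fun k => ev_rat (V (AlgebraicClosure F)) (N := 7) (a := 2) (b := 4) (emb_pow_one (algebraMap F _) hx)
    hζ.pow_eq_one (by norm_num) (by norm_num) (emb_rat _ hg) k
  have e1 := eV 1
  have e2 := eV 4
  have e3 := eV 3
  rw [one_mul, (h1 1 (by norm_num)).1, (h1 4 (by norm_num)).1] at e1
  rw [hm (4 * 4), (h1 4 (by norm_num)).1, (h1 2 (by norm_num)).1] at e2
  rw [hm (3 * 4), (h1 3 (by norm_num)).1, (h1 5 (by norm_num)).1] at e3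
  have h0 := (h1 0 (by norm_num)).1
  rw [pow_zero, ev_V_one] at h0
  have key : ∀ P ∈ T7, P.1.getD 1 0 = P.1.getD 4 0 → P.1.getD 4 0 = P.1.getD 2 0 → P.1.getD 3 0 = P.1.getD 5 0 →
      P.1.getD 0 0 = 56 ∨ P.1.getD 0 0 = 2 ∨ P.1.getD 0 0 = 8 ∨ P.1.getD 0 0 = 20 := by decide
  rw [h0]
  rcases key P hP e1 e2 e3 with h | h
  · exact absurd (eq_one_of_ev (h0.trans h)) hx1
  · exact h

theorem natCast_ne_zero_of_odd (h2 : (2 : F) = 0) {N : ℕ} (hN : N % 2 = 1) : ((N : ℕ) : F) ≠ 0 := by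
  have h1 : N = 2 * (N / 2) + 1 := by omega
  rw [h1]
  push_cast
  rw [h2, zero_mul, zero_add]
  exact one_ne_zero

/-- **elements of order 15 conjugate to their squares** -/
theorem fifteen_rat (h2 : (2 : F) = 0) {x g : Gh F} (hx : x ^ 15 = 1) (hg : g * x * g⁻¹ = x ^ 2)
    (hv : ev (V F (x ^ 3)) 1 = 16) (hl : ev (L F (x ^ 3)) 1 = 33) :
    (ev (V F (x ^ 5)) 1 = 32 → ev (V F x) 1 = 0 ∨ ev (V F x) 1 = 8) ∧
    (ev (V F (x ^ 5)) 1 = 20 → ev (V F x) 1 = 4 ∨ ev (V F x) 1 = 12) ∧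
    (ev (L F (x ^ 5)) 1 = 43 → ev (L F x) 1 = 15) := by
  classical
  have : CharP F 2 := charP_two h2
  have hp2 : Fact (Nat.Prime 2) := ⟨Nat.prime_two⟩
  obtain ⟨ζ, hζ, f, g', hQ, h1⟩ := patQ chkR (by norm_num) 2 (by norm_num) hx
  have hfr := frame (F := F) (x := x) 2 (N := 15) (by norm_num) (by norm_num) hx
  have hi : ∃ i : F →+* AlgebraicClosure F, i = algebraMap F (AlgebraicClosure F) := ⟨_, rfl⟩
  obtain ⟨i, hi⟩ := hi
  rw [← hi] at h1 hfr
  have hm : ∀ j, ζ ^ j = ζ ^ (j % 15) := fun j => pow_mod_eq hζ j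
  have eV := fun k => ev_rat (V (AlgebraicClosure F)) (N := 15) (a := 2) (b := 8) (emb_pow_one i hx)
    hζ.pow_eq_one (by norm_num) (by norm_num) (emb_rat _ hg) k
  have eL := fun k => ev_rat (L (AlgebraicClosure F)) (N := 15) (a := 2) (b := 8) (emb_pow_one i hx)
    hζ.pow_eq_one (by norm_num) (by norm_num) (emb_rat _ hg) k
  have hV : ∀ k < 15, ev (V (AlgebraicClosure F) (emb i x)) (ζ ^ k) = f k := fun k hk => (h1 k hk).1
  have hL : ∀ k < 15, ev (L (AlgebraicClosure F) (emb i x)) (ζ ^ k) = g' k := fun k hk => (h1 k hk).2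
  have rV : ∀ a b, a < 15 → b < 15 → a * 8 % 15 = b → f a = f b := by
    intro a b ha hb hab
    have h3 := eV a
    rw [hm (a * 8), hab, hV a ha, hV b hb] at h3
    exact h3
  have rL : ∀ a b, a < 15 → b < 15 → a * 8 % 15 = b → g' a = g' b := by
    intro a b ha hb hab
    have h3 := eL a
    rw [hm (a * 8), hab, hL a ha, hL b hb] at h3
    exact h3
  have grp : Grp (V (AlgebraicClosure F)) ζ (emb i x) := fun t τ h θ => by
    convert ev_grp_V (by norm_num) hζ hfr τ h θ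
  have grpL : Grp (L (AlgebraicClosure F)) ζ (emb i x) := fun t τ h θ => by
    convert ev_grp_L (by norm_num) hζ hfr τ h θ
  have pV : ∀ j : ℕ, ev (V F (x ^ j)) 1 = ∑ k ∈ Finset.range 15, if (j * k % 15 == 0 % 15) = true then f k else 0 := by
    intro j
    rw [← ev_V_one i, map_pow, ← pow_zero ζ]
    refine grp.sum hζ hV (fun k => j * k) (fun k _ v hv => ?_) 0
    rw [eig_pow _ hv j, ← pow_mul, mul_comm]
  have pL : ∀ j : ℕ, ev (L F (x ^ j)) 1 = ∑ k ∈ Finset.range 15, if (j * k % 15 == 0 % 15) = true then g' k else 0 := by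
    intro j
    rw [← ev_L_one i, map_pow, ← pow_zero ζ]
    refine grpL.sum hζ hL (fun k => j * k) (fun k _ v hv => ?_) 0
    rw [eig_pow _ hv j, ← pow_mul, mul_comm]
  have q3 := pV 3
  have q5 := pV 5
  have q3' := pL 3
  have q5' := pL 5
  simp only [Finset.sum_range_succ, Finset.sum_range_zero] at q3 q5 q3' q5'
  norm_num at q3 q5 q3' q5'
  rw [← map_pow] at q3 q5 q3' q5'
  have h0 := hV 0 (by norm_num)
  have h0' := hL 0 (by norm_num)
  rw [pow_zero, ev_V_one] at h0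
  rw [pow_zero, ev_L_one] at h0'
  have a1 := rV 1 8 (by norm_num) (by norm_num) (by norm_num)
  have a2 := rV 8 4 (by norm_num) (by norm_num) (by norm_num)
  have a3 := rV 4 2 (by norm_num) (by norm_num) (by norm_num)
  have a4 := rV 3 9 (by norm_num) (by norm_num) (by norm_num)
  have a5 := rV 9 12 (by norm_num) (by norm_num) (by norm_num)
  have a6 := rV 12 6 (by norm_num) (by norm_num) (by norm_num)
  have a7 := rV 5 10 (by norm_num) (by norm_num) (by norm_num)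
  have b1 := rL 1 8 (by norm_num) (by norm_num) (by norm_num)
  have b2 := rL 8 4 (by norm_num) (by norm_num) (by norm_num)
  have b3 := rL 4 2 (by norm_num) (by norm_num) (by norm_num)
  have b4 := rL 3 9 (by norm_num) (by norm_num) (by norm_num)
  have b5 := rL 9 12 (by norm_num) (by norm_num) (by norm_num)
  have b6 := rL 12 6 (by norm_num) (by norm_num) (by norm_num)
  have b7 := rL 5 10 (by norm_num) (by norm_num) (by norm_num)
  rw [hv] at q3
  rw [hl] at q3'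
  have c1 : f 1 = f 2 := by omega
  have c2 : f 2 = f 4 := by omega
  have c3 : f 3 = f 6 := by omega
  have c4 : f 0 + (f 5 + f 10) = 16 := by omega
  have c5 : g' 1 = g' 2 := by omega
  have c6 : g' 2 = g' 4 := by omega
  have c7 : g' 3 = g' 6 := by omega
  have c8 : g' 0 + (g' 5 + g' 10) = 33 := by omega
  have c9 : f 0 + (f 3 + (f 6 + (f 9 + f 12))) = ev (V F (x ^ 5)) 1 := by rw [q5]; ring
  have c10 : g' 0 + (g' 3 + (g' 6 + (g' 9 + g' 12))) = ev (L F (x ^ 5)) 1 := by rw [q5']; ring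
  unfold QR at hQ
  rw [c4, c8, c9, c10, c1, c2, c3, a7, c5, c6, c7, b7] at hQ
  simp only [Nat.beq_refl, Bool.not_true, Bool.false_or, Bool.and_eq_true, Bool.or_eq_true, Bool.not_eq_true'] at hQ
  obtain ⟨d1, d2, d3⟩ := hQ
  rw [h0, h0']
  refine ⟨fun h => ?_, fun h => ?_, fun h => ?_⟩
  · rw [h] at d1
    simpa using d1
  · rw [h] at d2
    simpa using d2
  · rw [h] at d3
    simpa using d3

/-- the types of the elements of order 3 -/
theorem three_pat (h2 : (2 : F) = 0) {x : Gh F} (hx : x ^ 3 = 1) (hx1 : x ≠ 1) (h16 : 16 ≤ ev (V F x) 1) :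
    (ev (V F x) 1 = 32 ∧ ev (L F x) 1 = 67) ∨ (ev (V F x) 1 = 20 ∧ ev (L F x) 1 = 49) ∨
      (ev (V F x) 1 = 20 ∧ ev (L F x) 1 = 43) := by
  have h3 := natCast_ne_zero_of_odd (F := F) h2 (N := 3) rfl
  obtain ⟨P, hP, e1, e2⟩ := patF chk3 h3 hx
  have key : ∀ P ∈ T3, P.1.getD 0 0 = 56 ∨ P.1.getD 0 0 < 16 ∨ (P.1.getD 0 0 = 32 ∧ P.2.getD 0 0 = 67) ∨
      (P.1.getD 0 0 = 20 ∧ P.2.getD 0 0 = 49) ∨ (P.1.getD 0 0 = 20 ∧ P.2.getD 0 0 = 43) := by decide
  rw [e1] at h16 ⊢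
  rw [e2]
  rcases key P hP with h | h | h
  · exact absurd (eq_one_of_ev (e1.trans h)) hx1
  · omega
  · exact h

end

end Cfsg.Agent.R2.T1.Pat2
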