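import Cfsg.Agent.R2.T1.Inf.TorL

/-!
# T1, PAT2 (helper26): the centralizer of an element of order 3 in characteristic 2

* `exists_Phi2` : an element commuting with `λ(ζ)` which acts trivially on the fixed points of `λ(ζ)` on the adjoint
  module is in the torus;
* `comm2` : the centralizer of `λ(ζ)` centralizes `λ(μ)`.
-/

set_option autoImplicit false
set_option maxRecDepth 100000

namespace Cfsg.Agent.R2.T1.Pat2

open Cfsg Cfsg.Lie Module
open scoped Matrix
open Cfsg.Agent.ChevalleyStructure Cfsg.Agent.ChevalleyStructure.Elts Cfsg.Agent.ChevalleyStructure.RootVec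
  Cfsg.Agent.ChevalleyStructure.RootVecTab Cfsg.Agent.ChevalleyStructure.CoxeterGeomTypes
open Cfsg.Agent.ChevalleyStructure.StBasic Cfsg.Agent.ChevalleyStructure.StTheta Cfsg.Agent.H129.StCover
open Cfsg.Agent.ChevalleyStructure.LieAbs Cfsg.Agent.ChevalleyStructure.LieAut Cfsg.Agent.ChevalleyStructure.JacMain
open Cfsg.Agent.ChevalleyStructure.JacAll Cfsg.Agent.ChevalleyStructure.Ring Cfsg.Agent.ChevalleyStructure.Columns
open Cfsg.Agent.KFacts.RgdChevCoord
open Cfsg.Agent.H943.E7V.Block (D1 rho)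
open Cfsg.Agent.H944.Kac Cfsg.Agent.H944.Tab Cfsg.Agent.H944.E7Two
open Cfsg.Agent.H952.F4 (ev es)
open Cfsg.Agent.R2.T1

universe u

variable {K : Type u} [Field K]

/-- the parities of the values of the simple coroots -/
def code2 (r : ℕ) : List ℕ := (List.range 7).map fun j => ((car chevE7 j r) % 2).toNat

theorem code2_all : ((List.range 126).all fun r => (List.range 126).all fun s =>
    !(code2 r == code2 s) || (Nat.beq s r || Nat.beq (s + r) 125)) = true := by decide +kernel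

theorem code2_pos : ((List.range 126).all fun r => !(code2 r == List.replicate 7 0)) = true := by decide +kernel

theorem odd_cast (h2 : (2 : K) = 0) {m : ℤ} (h : m % 2 ≠ 0) : (m : K) = 1 := by
  have h1 : m = 2 * (m / 2) + 1 := by omega
  rw [h1]
  push_cast
  rw [h2]
  ring

theorem sep2 (h2 : (2 : K) = 0) {r s : ℕ} (hr : r < 126) (hs : s < 126) (h : s ≠ r) (h' : s + r ≠ 125) :
    ∃ j < 7, ((car chevE7 j r : ℤ) : K) ≠ ((car chevE7 j s : ℤ) : K) := by
  by_contra hne
  push Not at hne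
  have h1 := List.all_eq_true.1 (List.all_eq_true.1 code2_all r (List.mem_range.2 hr)) s (List.mem_range.2 hs)
  have h3 : code2 r = code2 s := by
    unfold code2
    refine List.map_congr_left fun j hj => ?_
    have h4 := hne j (List.mem_range.1 hj)
    by_contra h5
    have h6 : (car chevE7 j r - car chevE7 j s) % 2 ≠ 0 := fun h7 => h5 (by
      have : car chevE7 j r % 2 = car chevE7 j s % 2 := by omega
      rw [this])
    have h7 := odd_cast h2 h6
    push_cast at h7
    rw [h4, sub_self] at h7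
    exact zero_ne_one h7
  rw [h3] at h1
  simp only [beq_self_eq_true, Bool.not_true, Bool.false_or, Bool.or_eq_true] at h1
  rcases h1 with h1 | h1
  · exact h (Nat.eq_of_beq_eq_true h1)
  · exact h' (Nat.eq_of_beq_eq_true h1)

theorem sep20 (h2 : (2 : K) = 0) {r : ℕ} (hr : r < 126) : ∃ j < 7, ((car chevE7 j r : ℤ) : K) ≠ 0 := by
  by_contra hne
  push Not at hne
  have h1 := List.all_eq_true.1 code2_pos r (List.mem_range.2 hr)
  have h3 : code2 r = List.replicate 7 0 := by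
    have h4 : List.replicate 7 0 = (List.range 7).map fun _ => 0 := by decide
    rw [h4]
    unfold code2
    refine List.map_congr_left fun j hj => ?_
    have h4 := hne j (List.mem_range.1 hj)
    by_contra h5
    have h6 : (car chevE7 j r) % 2 ≠ 0 := fun h7 => h5 (by rw [h7]; rfl)
    have h7 := odd_cast h2 h6
    rw [h4] at h7
    exact zero_ne_one h7
  rw [h3] at h1
  simp at h1

variable {l : Fin chevE7.rank → ℤ} {j0 : ℕ} {d c0 χ₁ χ₂ : ℤ}

theorem rt_neg {r s : ℕ} (h : s + r = 125) {j : ℕ} (hj : j < 7) : rt chevE7 s j = - rt chevE7 r j := by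
  have key : ((List.range 126).all fun r => (List.range 7).all fun j =>
      decide (rt chevE7 (125 - r) j = - rt chevE7 r j)) = true := by decide +kernel
  have h1 := List.all_eq_true.1 (List.all_eq_true.1 key r (List.mem_range.2 (by omega))) j (List.mem_range.2 hj)
  rw [decide_eq_true_eq] at h1
  have h2 : s = 125 - r := by omega
  rw [h2, h1]

/-- an element commuting with `λ(ζ)`, trivial on its fixed points, is in the torus -/
theorem exists_Phi2 (h2 : (2 : K) = 0) (hT : TL l j0 d c0 χ₁ χ₂) {ζ : Kˣ} (hζ : IsPrimitiveRoot ζ 3) {τ : Gh K}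
    (hc : τ * Phi K (R2.T1.lam l ζ) = Phi K (R2.T1.lam l ζ) * τ)
    (hfix : ∀ X, L K (Phi K (R2.T1.lam l ζ)) X = X → L K τ X = X) : ∃ t, Phi K t = τ := by
  set g : GL chevE7.Idx K := ((ad K τ : ↥(chevE7.group K)) : GL chevE7.Idx K) with hg
  have hgm : g ∈ chevE7.group K := (ad K τ).2
  have hLg : ∀ X, L K τ X = (g : Matrix chevE7.Idx chevE7.Idx K) *ᵥ X := fun X => by rw [L_eq, LK_apply]
  have hinl : ∀ i : Fin chevE7.rank, (g : Matrix chevE7.Idx chevE7.Idx K) *ᵥ Pi.single (Sum.inl i) 1 =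
      Pi.single (Sum.inl i) 1 := by
    intro i
    rw [← hLg]
    apply hfix
    funext j
    rw [L_Phi_apply]
    by_cases hj : j = Sum.inl i
    · rw [hj]
      exact one_mul _
    · rw [Pi.single_eq_of_ne hj, mul_zero]
  have hinr : ∀ s : Fin chevE7.nroots, rt chevE7 s j0 = 0 →
      (g : Matrix chevE7.Idx chevE7.Idx K) *ᵥ Pi.single (Sum.inr s) 1 = Pi.single (Sum.inr s) 1 := by
    intro s hs
    rw [← hLg]
    apply hfix
    funext j
    rw [L_Phi_apply]
    by_cases hj : j = Sum.inr s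
    · rw [hj]
      show ((rtv s (R2.T1.lam l ζ) : Kˣ) : K) * _ = _
      rw [hT.rtv_lam s.2, hs, mul_zero, zpow_zero, Units.val_one, one_mul]
    · rw [Pi.single_eq_of_ne hj, mul_zero]
  have key : ∀ (i : Fin chevE7.rank) (a b : chevE7.Idx), (g : Matrix chevE7.Idx chevE7.Idx K) a b *
      Sum.elim (fun _ => (0 : K)) (fun s : Fin chevE7.nroots => ((car chevE7 i s.val : ℤ) : K)) b =
      Sum.elim (fun _ => (0 : K)) (fun s : Fin chevE7.nroots => ((car chevE7 i s.val : ℤ) : K)) a *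
      (g : Matrix chevE7.Idx chevE7.Idx K) a b := by
    intro i a b
    have h1 := group_mul_adv chevE7 Five.inl7 K g hgm (Pi.single (Sum.inl i) 1)
    rw [hinl i, adv_single_one] at h1
    have h3 := congrFun (congrFun h1 a) b
    rw [Matrix.mul_apply, Matrix.mul_apply, Finset.sum_eq_single b, Finset.sum_eq_single a] at h3
    · rw [Five.adR_inl_apply, Five.adR_inl_apply, if_pos rfl, if_pos rfl] at h3
      exact h3
    · intro c _ hc
      rw [Five.adR_inl_apply, if_neg (Ne.symm hc), zero_mul]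
    · intro hc; exact absurd (Finset.mem_univ _) hc
    · intro c _ hc
      rw [Five.adR_inl_apply, if_neg hc, mul_zero]
    · intro hc; exact absurd (Finset.mem_univ _) hc
  have hcm : ∀ r s : Fin chevE7.nroots, (g : Matrix chevE7.Idx chevE7.Idx K) (Sum.inr r) (Sum.inr s) *
      ((rtv s (R2.T1.lam l ζ) : Kˣ) : K) = ((rtv r (R2.T1.lam l ζ) : Kˣ) : K) *
      (g : Matrix chevE7.Idx chevE7.Idx K) (Sum.inr r) (Sum.inr s) := by
    intro r s
    have h1 : (g : Matrix chevE7.Idx chevE7.Idx K) * Five.dgL K (R2.T1.lam l ζ) =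
        Five.dgL K (R2.T1.lam l ζ) * (g : Matrix chevE7.Idx chevE7.Idx K) := by
      rw [← Five.ad_Phi, ← Units.val_mul, ← Units.val_mul, hg, ← Subgroup.coe_mul, ← Subgroup.coe_mul, ← map_mul,
        ← map_mul, hc]
    have h3 := congrFun (congrFun h1 (Sum.inr r)) (Sum.inr s)
    have h4 : Five.dgL K (R2.T1.lam l ζ) = Matrix.diagonal (Sum.elim (fun _ => (1 : K))
      fun s : Fin chevE7.nroots => ((rtv s (R2.T1.lam l ζ) : Kˣ) : K)) := rfl
    rw [h4, Matrix.mul_diagonal, Matrix.diagonal_mul] at h3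
    exact h3
  have hcol : ∀ (a : chevE7.Idx) (b : chevE7.Idx), (g : Matrix chevE7.Idx chevE7.Idx K) *ᵥ Pi.single b 1 =
      Pi.single b 1 → (g : Matrix chevE7.Idx chevE7.Idx K) a b = if a = b then 1 else 0 := by
    intro a b h
    have h1 := congrFun h a
    rw [Matrix.mulVec_single_one, Matrix.col_apply] at h1
    rw [h1, Pi.single_apply]
  have hdiag : (g : Matrix chevE7.Idx chevE7.Idx K) = Matrix.diagonal
      (Sum.elim (fun _ => (1 : K)) fun s : Fin chevE7.nroots =>
        (g : Matrix chevE7.Idx chevE7.Idx K) (Sum.inr s) (Sum.inr s)) := by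
    ext a b
    rw [Matrix.diagonal_apply]
    rcases b with i | s
    · rw [hcol _ _ (hinl i)]
      split_ifs with h3
      · rw [h3]; rfl
      · rfl
    · by_cases hs0 : rt chevE7 s j0 = 0
      · rw [hcol _ _ (hinr s hs0)]
        split_ifs with h3
        · rw [h3, Sum.elim_inr, hcol _ _ (hinr s hs0), if_pos rfl]
        · rfl
      · rcases a with i | r
        · rw [if_neg (by simp)]
          obtain ⟨j, hj, hne⟩ := sep20 (K := K) h2 s.2
          have h3 := key ⟨j, hj⟩ (Sum.inl i) (Sum.inr s)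
          simp only [Sum.elim_inl, Sum.elim_inr, zero_mul] at h3
          exact (mul_eq_zero.1 h3).resolve_right hne
        · split_ifs with h3
          · rw [Sum.inr.inj h3]; rfl
          · have hrs : (r : ℕ) ≠ s := fun e => h3 (congrArg Sum.inr (Fin.ext e))
            by_cases h125 : (r : ℕ) + s = 125
            · by_contra h0
              have h5 := hcm r s
              rw [hT.rtv_lam r.2, hT.rtv_lam s.2, rt_neg h125 hT.lt, mul_comm] at h5
              have h6 := Units.ext (mul_right_cancel₀ h0 h5)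
              have h7 : ζ ^ (d * rt chevE7 s j0 - d * -rt chevE7 s j0) = 1 := by
                rw [zpow_sub, h6, mul_inv_cancel]
              rw [hζ.zpow_eq_one_iff_dvd] at h7
              exact hs0 (hT.mod' s.2 (by
                have h8 : d * rt chevE7 s j0 - d * -rt chevE7 s j0 = 2 * (d * rt chevE7 s j0) := by ring
                rw [h8] at h7
                omega))
            · obtain ⟨j, hj, hne⟩ := sep2 (K := K) h2 s.2 r.2 hrs h125
              have h4 := key ⟨j, hj⟩ (Sum.inr r) (Sum.inr s)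
              simp only [Sum.elim_inr] at h4
              have h5 : (g : Matrix chevE7.Idx chevE7.Idx K) (Sum.inr r) (Sum.inr s) *
                  (((car chevE7 j s : ℤ) : K) - ((car chevE7 j r : ℤ) : K)) = 0 := by linear_combination h4
              exact (mul_eq_zero.1 h5).resolve_right (sub_ne_zero.2 hne)
  have h3 : ad K τ ∈ TT chevE7 K := Five.mem_diag hgm hdiag
  obtain ⟨a, ha⟩ := exists_theta_phi isPhi Cfsg.Agent.H944.E7Two.e7T h3
  have h4 : (Phi K a)⁻¹ * τ ∈ (ad K).ker := by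
    rw [MonoidHom.mem_ker, map_mul, map_inv]
    have h5 : ad K (Phi K a) = ad K τ := ha
    rw [h5, inv_mul_cancel]
  rw [ker_ad] at h4
  obtain ⟨b, hb⟩ := isPhi.center_le h4
  exact ⟨a * b, by rw [map_mul, hb, mul_inv_cancel_left]⟩

/-- **the centralizer of `λ(ζ)` centralizes `λ(μ)`**, characteristic 2 -/
theorem comm2 (h2 : (2 : K) = 0) (hT : TL l j0 d c0 χ₁ χ₂) (hd : d ≠ 0) {ζ : Kˣ} (hζ : IsPrimitiveRoot ζ 3)
    {h : Gh K} (hh : h * Phi K (R2.T1.lam l ζ) = Phi K (R2.T1.lam l ζ) * h) (μ : Kˣ) :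
    h * Phi K (R2.T1.lam l μ) = Phi K (R2.T1.lam l μ) * h := by
  have hh' : h * Phi K (R2.T1.lam l ζ) * h⁻¹ = Phi K (R2.T1.lam l ζ) ^ (1 : ℤ) := by
    rw [hh, mul_inv_cancel_right, zpow_one]
  -- the fixed points
  have hfix : ∀ X, L K (Phi K (R2.T1.lam l ζ)) X = X → L K (h * Phi K (R2.T1.lam l μ) * h⁻¹) X = X := by
    intro X hX
    have h1 : L K (Phi K (R2.T1.lam l ζ)) (L K h⁻¹ X) = L K h⁻¹ X := by
      have h3 : Phi K (R2.T1.lam l ζ) * h⁻¹ = h⁻¹ * Phi K (R2.T1.lam l ζ) := by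
        have h4 : h⁻¹ * (h * Phi K (R2.T1.lam l ζ)) * h⁻¹ = h⁻¹ * (Phi K (R2.T1.lam l ζ) * h) * h⁻¹ := by rw [hh]
        have h5 : h⁻¹ * (h * Phi K (R2.T1.lam l ζ)) * h⁻¹ = Phi K (R2.T1.lam l ζ) * h⁻¹ := by group
        have h6 : h⁻¹ * (Phi K (R2.T1.lam l ζ) * h) * h⁻¹ = h⁻¹ * Phi K (R2.T1.lam l ζ) := by group
        rw [h5, h6] at h4
        exact h4
      rw [← Module.End.mul_apply, ← map_mul, h3, map_mul, Module.End.mul_apply, hX]
    rw [map_mul, map_mul, Module.End.mul_apply, Module.End.mul_apply, hT.fix hζ h1 μ, ← Module.End.mul_apply,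
      ← map_mul, mul_inv_cancel, map_one, Module.End.one_apply]
  have hcc : (h * Phi K (R2.T1.lam l μ) * h⁻¹) * Phi K (R2.T1.lam l ζ) =
      Phi K (R2.T1.lam l ζ) * (h * Phi K (R2.T1.lam l μ) * h⁻¹) := by
    have e1 : Phi K (R2.T1.lam l ζ) = h * Phi K (R2.T1.lam l ζ) * h⁻¹ := by rw [hh', zpow_one]
    have e2 : Phi K (R2.T1.lam l μ) * Phi K (R2.T1.lam l ζ) = Phi K (R2.T1.lam l ζ) * Phi K (R2.T1.lam l μ) := by
      rw [← map_mul, ← map_mul, mul_comm]
    calc (h * Phi K (R2.T1.lam l μ) * h⁻¹) * Phi K (R2.T1.lam l ζ)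
        = (h * Phi K (R2.T1.lam l μ) * h⁻¹) * (h * Phi K (R2.T1.lam l ζ) * h⁻¹) := by rw [← e1]
      _ = h * (Phi K (R2.T1.lam l μ) * Phi K (R2.T1.lam l ζ)) * h⁻¹ := by group
      _ = h * (Phi K (R2.T1.lam l ζ) * Phi K (R2.T1.lam l μ)) * h⁻¹ := by rw [e2]
      _ = (h * Phi K (R2.T1.lam l ζ) * h⁻¹) * (h * Phi K (R2.T1.lam l μ) * h⁻¹) := by group
      _ = _ := by rw [← e1]
  obtain ⟨t, ht⟩ := exists_Phi2 h2 hT hζ hcc hfix
  have hs : ∀ i < 7, i ≠ j0 → rtv (chevE7.simple i) t = 1 := by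
    intro i hi hij
    have hlt : chevE7.simple i < chevE7.nroots := simple_lt7 i hi
    have hX : L K (Phi K (R2.T1.lam l ζ)) (Pi.single (Sum.inr ⟨chevE7.simple i, hlt⟩) 1) =
        Pi.single (Sum.inr ⟨chevE7.simple i, hlt⟩) 1 := by
      funext j
      rw [L_Phi_apply]
      by_cases hj : j = Sum.inr ⟨chevE7.simple i, hlt⟩
      · rw [hj]
        show ((rtv (chevE7.simple i) (R2.T1.lam l ζ) : Kˣ) : K) * _ = _
        rw [R2.T1.rtv_lam, hT.simple i hi, if_neg hij, zpow_zero, Units.val_one, one_mul]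
      · rw [Pi.single_eq_of_ne hj, mul_zero]
    have h1 := congrFun (hfix _ hX) (Sum.inr ⟨chevE7.simple i, hlt⟩)
    rw [← ht, L_Phi_apply, Pi.single_eq_same, mul_one] at h1
    exact Units.ext h1
  obtain ⟨s1, e1, f1⟩ := hT.dom hζ (Or.inl rfl) hh' ht (hT.dom₁ 1 (Or.inl rfl))
  obtain ⟨s2, e2, f2⟩ := hT.dom hζ (Or.inl rfl) hh' ht (hT.dom₂ 1 (Or.inl rfl))
  rw [one_mul] at e1 e2
  set τ := wt botv t with hτ
  set ν := rtv (chevE7.simple j0) t with hν
  rw [wt_one hT.lt hs, ← hτ, ← hν] at f1 f2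
  have hdiff := hT.diff
  have hκ : rt chevE8 (nn s1) j0 - rt chevE8 (nn s2) j0 = 1 := by
    have h3 : d * (rt chevE8 (nn s1) j0 - rt chevE8 (nn s2) j0) = d * 1 := by
      rw [mul_sub, mul_one]
      have : d * rt chevE8 (nn s1) j0 - d * rt chevE8 (nn s2) j0 = χ₁ - χ₂ := by rw [← e1, ← e2]; ring
      rw [this, hdiff]
    exact mul_left_cancel₀ hd h3
  have hν' : ν = μ ^ d := by
    have h3 : ν = ν ^ rt chevE8 (nn s1) j0 * (ν ^ rt chevE8 (nn s2) j0)⁻¹ := by
      rw [← zpow_neg, ← zpow_add, ← sub_eq_add_neg, hκ, zpow_one]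
    have h4 : μ ^ d = μ ^ χ₁ * (μ ^ χ₂)⁻¹ := by
      rw [← zpow_neg, ← zpow_add, ← hdiff, sub_eq_add_neg]
    rw [h3, h4, ← f1, ← f2]
    rw [mul_inv, mul_mul_mul_comm, mul_inv_cancel, one_mul]
  have hτ' : τ = μ ^ c0 := by
    have h3 : τ = μ ^ χ₂ * (ν ^ rt chevE8 (nn s2) j0)⁻¹ := by rw [← f2, mul_assoc, mul_inv_cancel, mul_one]
    rw [h3, hν', ← zpow_mul, ← zpow_neg, ← zpow_add]
    congr 1
    rw [← e2]
    ring
  have hfin : Phi K t = Phi K (R2.T1.lam l μ) := by
    apply rho_injective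
    rw [rho_Phi, rho_Phi]
    refine congrArg Matrix.diagonal (funext fun s => ?_)
    rw [hT.wt_lam, wt_one hT.lt hs, ← hτ, ← hν, hτ', hν', ← zpow_mul, ← zpow_add]
  rw [hfin] at ht
  have h9 : Phi K (R2.T1.lam l μ) * h = h * Phi K (R2.T1.lam l μ) * h⁻¹ * h := by rw [← ht]
  rw [h9]
  group

end Cfsg.Agent.R2.T1.Pat2
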